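import Cfsg.Agent.H60.SixBase
import Cfsg.Agent.H481.P4.Three

/-!
# Elimination of `PSL₃(v)`, `PSU₃(v)` for `C₃(q)`, `B₃(q)`, `D₄(q)`, `q = 5 ^ m` (helper481, task of helper376)
-/

set_option autoImplicit false

namespace Cfsg.Agent.H481.Six

open Cfsg.Agent.H376.Six Cfsg.Agent.H60.Six5
open Cfsg.Agent.H481.P4 (Dat parity sq_mod_eight sq_mod_four)

variable {q : ℕ}

/-! ### Numbers -/

theorem half_odd (hP : Pow5 q) : ¬ 2 ∣ (q ^ 3 + 1) / 2 := by
  have h1 : q ^ 3 % 4 = 1 := by rw [Nat.pow_mod, hP.mod]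
  omega

theorem two_B (hP : Pow5 q) : 2 * ((q ^ 3 + 1) / 2) = (q + 1) * (q ^ 2 - q + 1) := by
  have h1 := hP.A
  have h2 := hP.B
  have h3 := cube_add (q := q) (by have := hP.le; omega)
  rw [mul_comm (q + 1), ← h3]
  omega

/-- `max (ap, am) ≥ q² - q + 1` -/
theorem big_le (hP : Pow5 q) {d X : ℕ} (h1 : d * ap q ≤ X) (h2 : d * am q ≤ X) : d * (q ^ 2 - q + 1) ≤ X := by
  rcases ap_am_cases hP with ⟨h3, -⟩ | ⟨-, -, h3⟩
  · refine le_trans (Nat.mul_le_mul_left _ ?_) h1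
    rw [h3]
    omega
  · rwa [← h3]

theorem aux_one {v q : ℕ} (h : 2 * v ^ 2 ≤ 4 + (v + 2) * (q + 1)) : 2 * v ≤ q + 4 := by
  by_contra hlt
  push Not at hlt
  have h2 : v * (q + 5) ≤ v * (2 * v) := Nat.mul_le_mul_left _ (by omega)
  nlinarith

theorem aux_three {v q : ℕ} (h : 2 * v ^ 2 ≤ 8 + (v + 2) * (q + 1)) : 2 * v ≤ q + 5 := by
  by_contra hlt
  push Not at hlt
  have h2 : v * (q + 6) ≤ v * (2 * v) := Nat.mul_le_mul_left _ (by omega)
  nlinarith

theorem aux_up {v q k : ℕ} (h : 2 * v ≤ q + k) : 4 * (v ^ 2 + v + 1) ≤ (q + k) ^ 2 + 2 * (q + k) + 4 := by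
  have h1 : (2 * v) ^ 2 ≤ (q + k) ^ 2 := Nat.pow_le_pow_left h 2
  nlinarith

theorem num_up (hP : Pow5 q) {d v A B E : ℕ} (hd : d = 1 ∨ d = 3) (hA : d * A = v ^ 2 + v + 1) (hB : d * B + 1 = v ^ 2)
    (hE : d * E = v + 2) (hS : A * B ≤ A + E * ((q ^ 3 + 1) / 2)) (hb : d * (q ^ 2 - q + 1) ≤ v ^ 2 + v + 1) :
    d = 1 ∧ q = 5 ∧ v = 4 := by
  have h5 := hP.le
  have h2B := two_B hP
  obtain ⟨N, hN⟩ : ∃ N, N = q ^ 2 - q + 1 := ⟨_, rfl⟩
  have hN' : N + q = q ^ 2 + 1 := by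
    have : q ≤ q ^ 2 := by nlinarith
    omega
  rw [← hN] at h2B hb
  obtain ⟨T, hT⟩ : ∃ T, T = (q ^ 3 + 1) / 2 := ⟨_, rfl⟩
  rw [← hT] at h2B hS
  have h1 : 2 * (v ^ 2 + v + 1) * (v ^ 2 - 1) ≤ (v ^ 2 + v + 1) * (2 * d + (v + 2) * (q + 1)) := by
    have e1 : v ^ 2 - 1 = d * B := by omega
    rw [e1, ← hA]
    calc 2 * (d * A) * (d * B) = d * d * 2 * (A * B) := by ring
      _ ≤ d * d * 2 * (A + E * T) := Nat.mul_le_mul_left _ hS
      _ = (d * A) * (2 * d) + (d * E) * (d * (2 * T)) := by ring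
      _ = (d * A) * (2 * d) + (v + 2) * ((q + 1) * (d * N)) := by rw [hE, h2B]; ring
      _ ≤ (d * A) * (2 * d) + (v + 2) * ((q + 1) * (d * A)) := by
          apply Nat.add_le_add_left
          apply Nat.mul_le_mul_left
          apply Nat.mul_le_mul_left
          rw [hA]; exact hb
      _ = (d * A) * (2 * d + (v + 2) * (q + 1)) := by ring
  have h3 : 2 * (v ^ 2 - 1) ≤ 2 * d + (v + 2) * (q + 1) := by
    have h4 : (v ^ 2 + v + 1) * (2 * (v ^ 2 - 1)) ≤ (v ^ 2 + v + 1) * (2 * d + (v + 2) * (q + 1)) := by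
      calc _ = 2 * (v ^ 2 + v + 1) * (v ^ 2 - 1) := by ring
        _ ≤ _ := h1
    exact Nat.le_of_mul_le_mul_left h4 (by positivity)
  have h4 : 2 * v ^ 2 ≤ 2 * d + 2 + (v + 2) * (q + 1) := by omega
  rcases hd with rfl | rfl
  · have h6 : 2 * v ≤ q + 4 := aux_one (by omega)
    have h9 := aux_up h6
    have h7 : q = 5 := by
      rcases hP.cases with h8 | h8
      · exact h8
      · exfalso
        clear h1 h3 h4 hS h2B hA hB hE
        have h10 : 25 * q ≤ q ^ 2 := by nlinarith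
        nlinarith
    subst h7
    have hv : v ≤ 4 := by omega
    refine ⟨rfl, rfl, ?_⟩
    have : 4 ≤ v := by
      by_contra hlt
      have : v ≤ 3 := by omega
      interval_cases v <;> omega
    omega
  · exfalso
    have h6 : 2 * v ≤ q + 5 := aux_three (by omega)
    have h9 := aux_up h6
    clear h1 h3 h4 hS h2B hA hB hE
    have h10 : 5 * q ≤ q ^ 2 := by nlinarith
    nlinarith

theorem num_down (hP : Pow5 q) {d v A B E : ℕ} (hd : d = 1 ∨ d = 3) (hA : d * A + v = v ^ 2 + 1)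
    (hB : d * B + 1 = v ^ 2) (hE : d * E + 2 = v) (hS : A * B ≤ B + E * ((q ^ 3 + 1) / 2))
    (hb : d * (q ^ 2 - q + 1) ≤ v ^ 2 + v) : False := by
  have h5 := hP.le
  have h2B := two_B hP
  obtain ⟨N, hN⟩ : ∃ N, N = q ^ 2 - q + 1 := ⟨_, rfl⟩
  have hN' : N + q = q ^ 2 + 1 := by
    have : q ≤ q ^ 2 := by nlinarith
    omega
  rw [← hN] at h2B hb
  obtain ⟨T, hT⟩ : ∃ T, T = (q ^ 3 + 1) / 2 := ⟨_, rfl⟩
  rw [← hT] at h2B hS
  obtain ⟨w, rfl⟩ : ∃ w, v = w + 2 := ⟨v - 2, by omega⟩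
  have hd1 : 1 ≤ d := by omega
  have hd3 : d ≤ 3 := by omega
  have hw : 1 ≤ w := by
    by_contra hlt
    have : w = 0 := by omega
    subst this
    nlinarith
  have eA : d * A = w * w + 3 * w + 3 := by nlinarith
  have eB : d * B = (w + 1) * (w + 3) := by nlinarith
  have eE : d * E = w := by omega
  have h1 : 2 * ((w * w + 3 * w + 3) * ((w + 1) * (w + 3))) ≤
      (w + 3) * (2 * d * (w + 1) + w * ((q + 1) * (w + 2))) := by
    rw [← eA]
    calc 2 * (d * A * ((w + 1) * (w + 3))) = d * d * 2 * (A * B) := by rw [← eB]; ring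
      _ ≤ d * d * 2 * (B + E * T) := Nat.mul_le_mul_left _ hS
      _ = (d * B) * (2 * d) + (d * E) * (d * (2 * T)) := by ring
      _ = ((w + 1) * (w + 3)) * (2 * d) + w * ((q + 1) * (d * N)) := by rw [eB, eE, h2B]; ring
      _ ≤ ((w + 1) * (w + 3)) * (2 * d) + w * ((q + 1) * ((w + 2) ^ 2 + (w + 2))) := by
          apply Nat.add_le_add_left
          apply Nat.mul_le_mul_left
          exact Nat.mul_le_mul_left _ hb
      _ = (w + 3) * (2 * d * (w + 1) + w * ((q + 1) * (w + 2))) := by ring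
  have h2 : 2 * ((w * w + 3 * w + 3) * (w + 1)) ≤ 2 * d * (w + 1) + w * ((q + 1) * (w + 2)) := by
    have h4 : (w + 3) * (2 * ((w * w + 3 * w + 3) * (w + 1))) ≤ (w + 3) * (2 * d * (w + 1) + w * ((q + 1) * (w + 2))) := by
      calc _ = 2 * ((w * w + 3 * w + 3) * ((w + 1) * (w + 3))) := by ring
        _ ≤ _ := h1
    exact Nat.le_of_mul_le_mul_left h4 (by positivity)
  have h3 : w * (2 * ((w + 3) * (w + 1))) ≤ w * ((q + 1) * (w + 2)) := by
    have h6 : 2 * d * (w + 1) ≤ 6 * (w + 1) := Nat.mul_le_mul_right _ (by omega)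
    nlinarith
  have h4 : 2 * ((w + 3) * (w + 1)) ≤ (q + 1) * (w + 2) := Nat.le_of_mul_le_mul_left h3 (by omega)
  have h6 : 2 * (w + 2) ≤ q + 1 := by
    by_contra hlt
    push Not at hlt
    nlinarith
  have h7 : N ≤ d * N := Nat.le_mul_of_pos_left N (by omega)
  nlinarith

/-! ### The elimination -/

section

variable {U : ℤ} {d A B C D l : ℕ}

theorem C_int (h : Dat U d A B C D l) {n : ℕ} (hn : n ∣ C) : (n : ℤ) ∣ U - 1 := by
  have h1 : (n : ℤ) ∣ C := Int.natCast_dvd_natCast.2 hn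
  rcases h.hC with h2 | h2
  · rwa [h2] at h1
  · rw [h2] at h1
    rw [← neg_sub]
    exact (dvd_neg).2 h1

theorem int_C (h : Dat U d A B C D l) {n : ℕ} (hn : (n : ℤ) ∣ U - 1) : n ∣ C := by
  apply Int.natCast_dvd_natCast.1
  rcases h.hC with h2 | h2
  · rwa [h2]
  · rw [h2, ← neg_sub]
    exact (dvd_neg).2 hn

theorem cop_d (h : Dat U d A B C D l) {n : ℕ} (hn : ¬ 3 ∣ n) : Nat.Coprime n d := by
  rcases h.hd with h1 | h1
  · rw [h1]; exact Nat.coprime_one_right _
  · rw [h1]; exact ((Nat.Prime.coprime_iff_not_dvd Nat.prime_three).2 hn).symm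

theorem B_of_C (h : Dat U d A B C D l) {n : ℕ} (hn : ¬ 3 ∣ n) (hC : n ∣ C) : n ∣ B := by
  have h1 : (n : ℤ) ∣ (d : ℤ) * B := by
    rw [h.hB]
    have : U ^ 2 - 1 = (U - 1) * (U + 1) := by ring
    rw [this]
    exact (C_int h hC).mul_right _
  have h2 : n ∣ d * B := by exact_mod_cast h1
  exact (cop_d h hn).dvd_of_dvd_mul_left h2

theorem C_of_D (h : Dat U d A B C D l) {n : ℕ} (hn : Nat.Coprime n l) (hD : n ∣ D) : n ∣ C := by
  have h2 : n ∣ l * C := by
    rw [← h.hD]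
    exact hD.mul_left _
  exact hn.dvd_of_dvd_mul_left h2

theorem D_of_C (h : Dat U d A B C D l) {n : ℕ} (hn : ¬ 3 ∣ n) (hC : n ∣ C) : n ∣ D := by
  have h2 : n ∣ d * D := by
    rw [h.hD]
    exact hC.mul_left _
  exact (cop_d h hn).dvd_of_dvd_mul_left h2

theorem B_ne (h : Dat U d A B C D l) : B ≠ 0 := by
  rintro rfl
  have h1 := h.hB
  rw [Nat.cast_zero, mul_zero] at h1
  rcases h.hU with h2 | h2 <;> nlinarith

/-- for odd `U` the numbers `B`, `C`, `D` are even -/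
theorem even_of_odd (h : Dat U d A B C D l) (hU : U % 2 = 1) : 2 ∣ B ∧ 2 ∣ C ∧ 2 ∣ D := by
  have hC : 2 ∣ C := int_C h (by push_cast; omega)
  exact ⟨B_of_C h (by norm_num) hC, hC, D_of_C h (by norm_num) hC⟩

/-- for even `U` the number `D` is even -/
theorem even_D (h : Dat U d A B C D l) (hl : l = 2) : 2 ∣ D := by
  have h1 := h.hD
  rw [hl] at h1
  have h2 : 2 ∣ d * D := ⟨C, h1⟩
  exact ((cop_d h (by norm_num : ¬ 3 ∣ 2))).dvd_of_dvd_mul_left h2

theorem D_ne (h : Dat U d A B C D l) : D ≠ 0 := by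
  rintro rfl
  have h1 := h.hD
  rw [mul_zero] at h1
  have hl0 : 0 < l := by rcases h.hl with h2 | h2 <;> omega
  have hC0 : C ≠ 0 := by
    rintro rfl
    have h3 := h.hC
    have h4 := h.hU
    push_cast at h3
    omega
  exact (Nat.mul_pos hl0 (Nat.pos_of_ne_zero hC0)).ne h1

theorem A_ne (h : Dat U d A B C D l) : A ≠ 0 := by
  rintro rfl
  have h1 := h.hA
  rw [Nat.cast_zero, mul_zero] at h1
  nlinarith [sq_nonneg (2 * U + 1)]

/-- the bound for a divisor of `A`, `B`, `D` -/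
theorem bound_up (h : Dat U d A B C D l) {v : ℕ} (hv : U = v) (hlv : l ≤ v) {n : ℕ} (hn : n ∣ A ∨ n ∣ B ∨ n ∣ D) :
    d * n ≤ v ^ 2 + v + 1 := by
  have hA := h.hA
  have hB := h.hB
  have hC := h.hC
  have hU := h.hU
  subst hv
  rcases hn with h1 | h1 | h1
  · have h2 := Nat.mul_le_mul_left d (Nat.le_of_dvd (Nat.pos_of_ne_zero (A_ne h)) h1)
    zify
    zify at h2
    rw [hA] at h2
    exact h2
  · have h2 := Nat.mul_le_mul_left d (Nat.le_of_dvd (Nat.pos_of_ne_zero (B_ne h)) h1)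
    zify
    zify at h2
    rw [hB] at h2
    have : (0 : ℤ) ≤ v := by positivity
    linarith
  · have h2 := Nat.mul_le_mul_left d (Nat.le_of_dvd (Nat.pos_of_ne_zero (D_ne h)) h1)
    rw [h.hD] at h2
    have h3 : C + 1 = v := by omega
    have h4 : l * C ≤ v * C := Nat.mul_le_mul_right _ hlv
    nlinarith

theorem bound_down (h : Dat U d A B C D l) {v : ℕ} (hv : U = -v) (hlv : l ≤ v) {n : ℕ} (hn : n ∣ A ∨ n ∣ B ∨ n ∣ D) :
    d * n ≤ v ^ 2 + v := by
  have hA := h.hA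
  have hB := h.hB
  have hC := h.hC
  have hU := h.hU
  subst hv
  have hv2 : 2 ≤ v := by omega
  rcases hn with h1 | h1 | h1
  · have h2 := Nat.mul_le_mul_left d (Nat.le_of_dvd (Nat.pos_of_ne_zero (A_ne h)) h1)
    zify
    zify at h2 hv2
    rw [hA] at h2
    linarith
  · have h2 := Nat.mul_le_mul_left d (Nat.le_of_dvd (Nat.pos_of_ne_zero (B_ne h)) h1)
    zify
    zify at h2 hv2
    rw [hB] at h2
    linarith
  · have h2 := Nat.mul_le_mul_left d (Nat.le_of_dvd (Nat.pos_of_ne_zero (D_ne h)) h1)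
    rw [h.hD] at h2
    have h3 : C = v + 1 := by omega
    have h4 : l * C ≤ v * C := Nat.mul_le_mul_right _ hlv
    nlinarith

/-- the end: `A`, `B` divide the two halves -/
theorem end_of (h : Dat U d A B C D l) (hP : Pow5 q) (hlU : l ≤ U.natAbs)
    (hAB : (A ∣ (q ^ 3 + 1) / 2 ∧ B ∣ (q ^ 3 - 1) / 2) ∨ (A ∣ (q ^ 3 - 1) / 2 ∧ B ∣ (q ^ 3 + 1) / 2 ∧ U % 2 = 0))
    (h1 : ap q ∣ A ∨ ap q ∣ B ∨ ap q ∣ D) (h2 : am q ∣ A ∨ am q ∣ B ∨ am q ∣ D) : False := by
  have hA0 := hP.A_pos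
  have hBA := hP.B
  have hA := h.hA
  have hB := h.hB
  have hdU := h.hdU
  rcases h.hU with hU | hU
  · -- `U = -v`
    obtain ⟨v, hv⟩ : ∃ v : ℕ, U = -v := ⟨U.natAbs, by omega⟩
    have hlv : l ≤ v := by omega
    have hb := big_le hP (bound_down h hv hlv h1) (bound_down h hv hlv h2)
    subst hv
    have hv2 : 2 ≤ v := by omega
    have hdv : d ∣ v - 2 := by
      rcases h.hd with h3 | h3
      · rw [h3]; exact one_dvd _
      · rw [h3] at hdU ⊢
        omega
    obtain ⟨E, hE⟩ := hdv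
    have hE' : d * E + 2 = v := by omega
    have eA : d * A + v = v ^ 2 + 1 := by
      zify
      rw [hA]
      ring
    have eB : d * B + 1 = v ^ 2 := by
      zify
      rw [hB]
      ring
    have hd0 : 0 < d := by rcases h.hd with h3 | h3 <;> omega
    have eBA : B = A + E := by
      apply Nat.eq_of_mul_eq_mul_left hd0
      rw [mul_add]
      omega
    refine num_down hP h.hd eA eB hE' ?_ hb
    rcases hAB with ⟨h3, h4⟩ | ⟨h3, h4, h5⟩
    · have h6 := size_down hBA h4 h3 eBA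
      calc A * B = B * A := mul_comm _ _
        _ ≤ B + E * ((q ^ 3 - 1) / 2) := h6
        _ ≤ B + E * ((q ^ 3 + 1) / 2) := by
          apply Nat.add_le_add_left
          apply Nat.mul_le_mul_left
          omega
    · have h7 : 1 < A := by
        rcases h1 with h8 | h8 | h8
        · have := Nat.le_of_dvd (Nat.pos_of_ne_zero (A_ne h)) h8
          have := ap_ge hP
          omega
        all_goals
          by_contra hlt
          have hA1 : A = 1 := by have := A_ne h; omega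
          rw [hA1] at eA
          have : v ≤ 2 := by
            by_contra hlt2
            have hd3 : d ≤ 3 := by rcases h.hd with h3 | h3 <;> omega
            nlinarith
          have hv' : v = 2 := by omega
          subst hv'
          have hq := hP.le
          have : q ^ 2 - q + 1 ≤ d * (q ^ 2 - q + 1) := Nat.le_mul_of_pos_left _ hd0
          have : 5 * q ≤ q ^ 2 := by nlinarith
          omega
      rcases size_up hBA h3 h7 h4 eBA with ⟨h8, -, -⟩ | h8
      · exfalso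
        rw [h8] at hE'
        rcases h.hd with h9 | h9 <;> omega
      · omega
  · -- `U = v`
    obtain ⟨v, hv⟩ : ∃ v : ℕ, U = v := ⟨U.natAbs, by omega⟩
    have hlv : l ≤ v := by omega
    have hb := big_le hP (bound_up h hv hlv h1) (bound_up h hv hlv h2)
    subst hv
    have hv2 : 2 ≤ v := by omega
    have hdv : d ∣ v + 2 := by
      rcases h.hd with h3 | h3
      · rw [h3]; exact one_dvd _
      · rw [h3] at hdU ⊢
        omega
    obtain ⟨E, hE⟩ := hdv
    have hE' : d * E = v + 2 := by omega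
    have eA : d * A = v ^ 2 + v + 1 := by
      zify
      rw [hA]
    have eB : d * B + 1 = v ^ 2 := by
      zify
      rw [hB]
      ring
    have hd0 : 0 < d := by rcases h.hd with h3 | h3 <;> omega
    have eAB : A = B + E := by
      apply Nat.eq_of_mul_eq_mul_left hd0
      rw [mul_add]
      omega
    have key : A * B ≤ A + E * ((q ^ 3 + 1) / 2) := by
      rcases hAB with ⟨h3, h4⟩ | ⟨h3, h4, h5⟩
      · have h7 : 1 < B := by
          by_contra hlt
          have hB1 : B = 1 := by have := B_ne h; omega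
          rw [hB1] at eB
          rcases h.hd with h9 | h9
          · rw [h9] at eB; nlinarith
          · rw [h9] at eB
            have hv' : v = 2 := by nlinarith
            subst hv'
            rw [h9] at hdU
            omega
        rcases size_up hBA h4 h7 h3 eAB with ⟨h8, -, -⟩ | h8
        · exfalso
          rw [h8] at hE'
          rcases h.hd with h9 | h9 <;> omega
        · have : A * B = B * A := mul_comm _ _
          omega
      · have h6 := size_down hBA h3 h4 eAB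
        calc A * B ≤ A + E * ((q ^ 3 - 1) / 2) := h6
          _ ≤ A + E * ((q ^ 3 + 1) / 2) := by
            apply Nat.add_le_add_left
            apply Nat.mul_le_mul_left
            omega
    obtain ⟨h3, h4, h5⟩ := num_up hP h.hd eA eB hE' key hb
    subst h3 h4 h5
    have hap : ap 5 = 31 := by decide
    rw [hap] at h1
    have eA' : A = 21 := by omega
    have eB' : B = 15 := by omega
    have eC' : C = 3 := by
      have := h.hC
      omega
    have hl : l = 2 := by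
      rcases h.hl with h9 | h9 <;> omega
    have hD := h.hD
    rw [hl, eC'] at hD
    have eD' : D = 6 := by omega
    rw [eA', eB', eD'] at h1
    omega

/-- **The elimination.** -/
theorem elim (h : Dat U d A B C D l) (hP : Pow5 q) (oA : Ub q A) (oB : Ub q B) (oC : Ub q C) (oD : Ub q D)
    (hlp : l.Prime) (hl5 : l ≠ 5) (hlU : l ∣ U.natAbs)
    (ex : ((ap q ∣ A ∨ ap q ∣ B ∨ ap q ∣ C ∨ ap q ∣ D ∨ ap q ∣ 4) ∧
      (am q ∣ A ∨ am q ∣ B ∨ am q ∣ C ∨ am q ∣ D ∨ am q ∣ 4)) ∨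
      (25 ∣ A ∨ 25 ∣ B ∨ 25 ∣ C ∨ 25 ∣ D ∨ 25 ∣ 4)) : False := by
  have hq := hP.le
  have hU := h.hU
  have hlle : l ≤ U.natAbs := Nat.le_of_dvd (by omega) hlU
  have hap := ap_ge hP
  have ham := am_ge hP
  have hap3 := (ap_spec (q := q) (by omega)).2
  have ham3 := (am_spec (q := q) (by omega)).2
  have hodd : ∀ {N : ℕ}, am q ∣ N → Ub q N → ¬ 2 ∣ N := fun h1 h2 h3 => half_odd hP (h3.trans (dvd_B' hP h1 h2))
  rcases ex with ⟨hx, hy⟩ | hx
  swap
  · -- an element of order 25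
    have h25 : ¬ 25 ∣ B := by
      intro h1
      have h2 := eq_25 hP h1 oB
      have h3 := h.hB
      rw [h2] at h3
      have h4 : U ^ 2 < 81 := by rcases h.hd with h5 | h5 <;> rw [h5] at h3 <;> push_cast at h3 <;> omega
      have h5 : -9 < U := by nlinarith
      have h6 : U < 9 := by nlinarith
      rcases h.hd with h7 | h7 <;> rw [h7] at h3 <;> push_cast at h3 <;> interval_cases U <;> omega
    have h25C : ¬ 25 ∣ C := fun h1 => h25 (B_of_C h (by norm_num) h1)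
    rcases hx with h1 | h1 | h1 | h1 | h1
    · have h2 : (5 : ℤ) ∣ U ^ 2 + U + 1 := by
        rw [← h.hA]
        have h3 : (5 : ℕ) ∣ A := (by norm_num : (5 : ℕ) ∣ 25).trans h1
        exact Dvd.dvd.mul_left (Int.natCast_dvd_natCast.2 h3) _
      have h3 : U % 5 = 0 ∨ U % 5 = 1 ∨ U % 5 = 2 ∨ U % 5 = 3 ∨ U % 5 = 4 := by omega
      have h4 : (U ^ 2 + U + 1) % 5 = ((U % 5) ^ 2 + (U % 5) + 1) % 5 := by
        simp [pow_two, Int.add_emod, Int.mul_emod]
      have h5 := Int.emod_eq_zero_of_dvd h2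
      rw [h4] at h5
      rcases h3 with h3 | h3 | h3 | h3 | h3 <;> rw [h3] at h5 <;> norm_num at h5
    · exact h25 h1
    · exact h25C h1
    · refine h25C (C_of_D h ?_ h1)
      have : Nat.Coprime (5 ^ 2) l := Nat.Coprime.pow_left 2 ((Nat.coprime_primes (by norm_num) hlp).2 (Ne.symm hl5))
      simpa using this
    · omega
  -- the minus part
  have hy' : am q ∣ A ∨ (am q ∣ B ∧ U % 2 = 0) := by
    rcases h.hl with ⟨h1, h2⟩ | ⟨h1, h2⟩
    · have hDe := even_D h h1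
      have hnC : ¬ am q ∣ C := fun h3 => hodd (D_of_C h ham3 h3) oD hDe
      rcases hy with h3 | h3 | h3 | h3 | h3
      · exact Or.inl h3
      · exact Or.inr ⟨h3, h2⟩
      · exact absurd h3 hnC
      · exact absurd hDe (hodd h3 oD)
      · have := Nat.le_of_dvd (by norm_num) h3
        omega
    · obtain ⟨e1, e2, e3⟩ := even_of_odd h h2
      rcases hy with h3 | h3 | h3 | h3 | h3
      · exact Or.inl h3
      · exact absurd e1 (hodd h3 oB)
      · exact absurd e2 (hodd h3 oC)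
      · exact absurd e3 (hodd h3 oD)
      · have := Nat.le_of_dvd (by norm_num) h3
        omega
  rcases hy' with hy' | ⟨hy', hU2⟩
  · -- `am ∣ A`
    have hAB := dvd_B' hP hy' oA
    have hB : ap q ∣ B → False := fun h1 =>
      end_of h hP hlle (Or.inl ⟨hAB, dvd_A' hP h1 oB⟩) (Or.inr (Or.inl h1)) (Or.inl hy')
    rcases hx with h1 | h1 | h1 | h1 | h1
    · exact not_both hP h1 hy' oA
    · exact hB h1
    · exact hB (B_of_C h hap3 h1)
    · -- `ap ∣ D`
      by_cases hr : ∃ r : ℕ, r.Prime ∧ r ∣ ap q ∧ r ≠ l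
      · obtain ⟨r, hr, hra, hrl⟩ := hr
        have h2 : r ∣ C := C_of_D h ((Nat.coprime_primes hr hlp).2 hrl) (hra.trans h1)
        have h3 : ¬ 3 ∣ r := fun h4 => hap3 (h4.trans hra)
        have h4 : r ∣ B := B_of_C h h3 h2
        exact end_of h hP hlle (Or.inl ⟨hAB, dvd_A hP hr hra h4 oB⟩) (Or.inr (Or.inr h1)) (Or.inl hy')
      · push Not at hr
        -- `ap = l`
        obtain ⟨r, hrp, hra⟩ := exists_ap hP
        have hlap : l ∣ ap q := by rw [← hr r hrp hra]; exact hra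
        have hl3 : l ≠ 3 := by
          intro h2
          exact hap3 (h2 ▸ hlap)
        have hlC : ¬ l ∣ C := by
          intro h2
          have h3 := C_int h h2
          have h4 : (l : ℤ) ∣ U := by
            rw [← Int.natCast_dvd_natCast] at hlU
            exact (Int.dvd_natAbs).1 hlU
          have h5 : (l : ℤ) ∣ 1 := by
            have := dvd_sub h4 h3
            simpa using this
          have h6 : l ∣ 1 := by exact_mod_cast h5
          exact hlp.one_lt.ne' (Nat.dvd_one.1 h6)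
        have hapl : ap q = l := by
          obtain ⟨k, hk⟩ := hlap
          have h2 : Nat.Coprime k l := by
            rw [Nat.coprime_comm, Nat.Prime.coprime_iff_not_dvd hlp]
            rintro ⟨j, rfl⟩
            apply hlC
            have h3 : l * (l * j) ∣ l * C := by
              rw [← hk, ← h.hD]
              exact h1.mul_left _
            exact (Dvd.intro _ rfl).trans (Nat.dvd_of_mul_dvd_mul_left hlp.pos h3)
          by_contra hne
          have hk1 : k ≠ 1 := by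
            rintro rfl
            exact hne (by rw [hk, mul_one])
          obtain ⟨s, hs, hsk⟩ := Nat.exists_prime_and_dvd hk1
          have h3 := hr s hs (by rw [hk]; exact hsk.mul_left _)
          rw [h3] at hsk
          have := Nat.Coprime.eq_one_of_dvd h2.symm hsk
          exact hlp.one_lt.ne' this
        have h2 := Nat.le_of_dvd (by have := hP.B; omega) hAB
        have h3 := h.hA
        have h4 : ap q ≤ U.natAbs := by rw [hapl]; exact hlle
        have h5 : (ap q : ℤ) ≤ U ∨ (ap q : ℤ) ≤ -U := by omega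
        have h6 : (ap q : ℤ) * (ap q - 1) ≤ U ^ 2 + U + 1 := by
          rcases h5 with h5 | h5 <;> nlinarith
        have h7 : (d : ℤ) * A ≤ 3 * ((q ^ 3 + 1) / 2 : ℕ) := by
          have h8 : d ≤ 3 := by rcases h.hd with h9 | h9 <;> omega
          have h9 : d * A ≤ 3 * ((q ^ 3 + 1) / 2) := Nat.mul_le_mul h8 h2
          exact_mod_cast h9
        rw [h3] at h7
        have h8 : ap q * (ap q - 1) ≤ 3 * ((q ^ 3 + 1) / 2) := by
          have h9 := h6.trans h7
          zify [show 1 ≤ ap q by omega]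
          exact h9
        have h9 := three_ap (q := q) (by omega)
        rcases hP.cases with h10 | h10
        · subst h10
          have hap5 : ap 5 = 31 := by decide
          rw [hap5] at h8
          norm_num at h8
        · have h11 := two_B hP
          have h12 : (q ^ 2 + q + 1) * (q ^ 2 + q - 2) ≤ 9 * (ap q * (ap q - 1)) := by
            have h13 : q ^ 2 + q - 2 ≤ 3 * (ap q - 1) := by omega
            calc _ ≤ (3 * ap q) * (3 * (ap q - 1)) := Nat.mul_le_mul h9 h13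
              _ = _ := by ring
          have h13 : 2 * ((q ^ 2 + q + 1) * (q ^ 2 + q - 2)) ≤ 27 * (2 * ((q ^ 3 + 1) / 2)) := by omega
          rw [h11] at h13
          have hqq : q ≤ q ^ 2 := by nlinarith
          have h14 : q ^ 2 - q + 1 ≤ q ^ 2 := by omega
          have h15 : q ^ 2 ≤ q ^ 2 + q - 2 := by omega
          have h16 : 2 * ((q ^ 2 + q + 1) * q ^ 2) ≤ 27 * ((q + 1) * q ^ 2) := by
            calc _ ≤ 2 * ((q ^ 2 + q + 1) * (q ^ 2 + q - 2)) := by gcongr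
              _ ≤ _ := h13
              _ ≤ _ := by gcongr
          have h17 : q ^ 2 * (2 * (q ^ 2 + q + 1)) ≤ q ^ 2 * (27 * (q + 1)) := by
            calc _ = 2 * ((q ^ 2 + q + 1) * q ^ 2) := by ring
              _ ≤ _ := h16
              _ = _ := by ring
          have h18 := Nat.le_of_mul_le_mul_left h17 (by positivity)
          nlinarith
    · have := Nat.le_of_dvd (by norm_num) h1
      omega
  · -- `am ∣ B`, `U` even
    have hl2 : l = 2 := by
      rcases h.hl with h1 | h1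
      · exact h1.1
      · omega
    have hBB := dvd_B' hP hy' oB
    have hnB : ¬ ap q ∣ B := fun h1 => not_both hP h1 hy' oB
    rcases hx with h1 | h1 | h1 | h1 | h1
    · exact end_of h hP hlle (Or.inr ⟨dvd_A' hP h1 oA, hBB, hU2⟩) (Or.inl h1) (Or.inr (Or.inl hy'))
    · exact hnB h1
    · exact hnB (B_of_C h hap3 h1)
    · refine hnB (B_of_C h hap3 (C_of_D h ?_ h1))
      rw [hl2]
      exact (ap_odd (by omega)).symm
    · have := Nat.le_of_dvd (by norm_num) h1
      omega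

end

/-- **No `PSL₃(v)`.** -/
theorem psl_three {q : ℕ} {F : Type*} [Field F] [Fintype F] (h5 : ¬ 5 ∣ Fintype.card F)
    (h : E5 q (Matrix.ProjectiveSpecialLinearGroup (Fin 3) F)) : False := by
  obtain ⟨l, hc⟩ := CharP.exists F
  have hl : Fact l.Prime := ⟨CharP.char_is_prime F l⟩
  have hs := Cfsg.Agent.S2476.result (F := F) l
  have hpar := parity (F := F) l
  have h2 : 2 ≤ Fintype.card F := Fintype.one_lt_card
  have hlF : l ∣ Fintype.card F := by
    obtain ⟨n, -, hn⟩ := FiniteField.card F l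
    rw [hn]
    exact dvd_pow_self l n.ne_zero
  have hl5 : l ≠ 5 := by
    rintro rfl
    exact h5 hlF
  have hom : ∀ m ∈ Set.range (orderOf : Matrix.ProjectiveSpecialLinearGroup (Fin 3) F → ℕ), Ub q m := by
    rintro m ⟨x, rfl⟩
    exact h.ub x
  have hex : (ap q ∈ Set.range (orderOf : Matrix.ProjectiveSpecialLinearGroup (Fin 3) F → ℕ) ∧
      am q ∈ Set.range (orderOf : Matrix.ProjectiveSpecialLinearGroup (Fin 3) F → ℕ)) ∨
      25 ∈ Set.range (orderOf : Matrix.ProjectiveSpecialLinearGroup (Fin 3) F → ℕ) := by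
    rcases h.five with ⟨h1, h2, -⟩ | h1
    · exact Or.inl ⟨h1, h2⟩
    · exact Or.inr h1
  have hP := pow5 h.pow
  rw [hs] at hom hex
  clear hs h h5
  generalize Fintype.card F = u at *
  obtain ⟨t, rfl⟩ : ∃ t, u = t + 1 := ⟨u - 1, by omega⟩
  rw [Nat.add_sub_cancel] at hom hex
  have hd : Nat.gcd 3 t = 1 ∨ Nat.gcd 3 t = 3 := (Nat.dvd_prime Nat.prime_three).1 (Nat.gcd_dvd_left _ _)
  have hdt : Nat.gcd 3 t ∣ t := Nat.gcd_dvd_right _ _
  have hd3 : Nat.gcd 3 t ∣ 3 := Nat.gcd_dvd_left _ _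
  have e1 : (t + 1) ^ 2 + (t + 1) + 1 = t * (t + 3) + 3 := by ring
  have e2 : (t + 1) ^ 2 - 1 = t * (t + 2) := by
    have h : (t + 1) ^ 2 = t * (t + 2) + 1 := by ring
    rw [h, Nat.add_sub_cancel]
  have hA : Nat.gcd 3 t * (((t + 1) ^ 2 + (t + 1) + 1) / Nat.gcd 3 t) = (t + 1) ^ 2 + (t + 1) + 1 := by
    apply Nat.mul_div_cancel'
    rw [e1]
    exact dvd_add (hdt.mul_right _) hd3
  have hB : Nat.gcd 3 t * (((t + 1) ^ 2 - 1) / Nat.gcd 3 t) = t * (t + 2) := by
    rw [e2]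
    exact Nat.mul_div_cancel' (hdt.mul_right _)
  have hD : Nat.gcd 3 t * ((l * t) / Nat.gcd 3 t) = l * t := Nat.mul_div_cancel' (hdt.mul_left _)
  have hdat : Dat ((t + 1 : ℕ) : ℤ) (Nat.gcd 3 t) (((t + 1) ^ 2 + (t + 1) + 1) / Nat.gcd 3 t)
      (((t + 1) ^ 2 - 1) / Nat.gcd 3 t) t ((l * t) / Nat.gcd 3 t) l := by
    refine ⟨hd, ?_, Or.inr (by omega), ?_, ?_, Or.inl (by push_cast; ring), hD, ?_⟩
    · have : ((t + 1 : ℕ) : ℤ) - 1 = (t : ℤ) := by push_cast; ring
      rw [this]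
      exact Int.natCast_dvd_natCast.2 hdt
    · rw [← Nat.cast_mul, hA]
      push_cast
      ring
    · rw [← Nat.cast_mul, hB]
      push_cast
      ring
    · rcases hpar with ⟨a, b⟩ | ⟨a, b⟩
      · exact Or.inl ⟨a, by omega⟩
      · exact Or.inr ⟨a, by omega⟩
  have key : ∀ {m : ℕ}, (m ∣ ((t + 1) ^ 2 + (t + 1) + 1) / Nat.gcd 3 t ∨ m ∣ ((t + 1) ^ 2 - 1) / Nat.gcd 3 t ∨
      m ∣ t ∨ m ∣ (l * t) / Nat.gcd 3 t ∨ (l = 2 ∧ m ∣ 4)) →
      (m ∣ ((t + 1) ^ 2 + (t + 1) + 1) / Nat.gcd 3 t ∨ m ∣ ((t + 1) ^ 2 - 1) / Nat.gcd 3 t ∨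
      m ∣ t ∨ m ∣ (l * t) / Nat.gcd 3 t ∨ m ∣ 4) := by
    intro m h1
    rcases h1 with h1 | h1 | h1 | h1 | ⟨-, h1⟩
    · exact Or.inl h1
    · exact Or.inr (Or.inl h1)
    · exact Or.inr (Or.inr (Or.inl h1))
    · exact Or.inr (Or.inr (Or.inr (Or.inl h1)))
    · exact Or.inr (Or.inr (Or.inr (Or.inr h1)))
  refine elim hdat hP (hom _ (Or.inl dvd_rfl)) (hom _ (Or.inr (Or.inl dvd_rfl)))
    (hom _ (Or.inr (Or.inr (Or.inl dvd_rfl)))) (hom _ (Or.inr (Or.inr (Or.inr (Or.inl dvd_rfl))))) hl.out hl5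
    (by rw [Int.natAbs_natCast]; exact hlF) ?_
  rcases hex with ⟨h1, h2⟩ | h1
  · exact Or.inl ⟨key h1, key h2⟩
  · exact Or.inr (key h1)

/-- **No `PSU₃(v)`.** -/
theorem psu_three {q u : ℕ} {F : Type*} [Field F] [Fintype F] (hF : Fintype.card F = u ^ 2) (h5 : ¬ 5 ∣ u)
    (hu : 3 ≤ u) (h : E5 q (Cfsg.PSU 3 F u)) : False := by
  obtain ⟨l, hc⟩ := CharP.exists F
  have hl : Fact l.Prime := ⟨CharP.char_is_prime F l⟩
  have hpar := parity (F := F) l
  rw [hF] at hpar
  have hP := pow5 h.pow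
  have hlu : l ∣ u := by
    obtain ⟨n, -, hn⟩ := FiniteField.card F l
    have h1 : l ∣ u ^ 2 := by
      rw [← hF, hn]
      exact dvd_pow_self l n.ne_zero
    exact hl.out.dvd_of_dvd_pow h1
  have hl5 : l ≠ 5 := by
    rintro rfl
    exact h5 hlu
  have hex0 : ∀ x : Cfsg.PSU 3 F u, orderOf x ∣ u + 1 ∨ orderOf x ∣ l * ((u + 1) / Nat.gcd 3 (u + 1)) ∨
      orderOf x ∣ (u ^ 2 - 1) / Nat.gcd 3 (u + 1) ∨ orderOf x ∣ (u ^ 2 - u + 1) / Nat.gcd 3 (u + 1) ∨
        (l = 2 ∧ orderOf x ∣ 4) := fun x => H124.SUThreeEig.orderOf_dvd hF l x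
  have oC : Ub q (u + 1) := h.ub' (H127.PSUThreeEx.ex_one hF (u + 1) dvd_rfl)
  have oB : Ub q ((u ^ 2 - 1) / Nat.gcd 3 (u + 1)) := h.ub' (H127.PSUThreeEx.ex_three hF _ dvd_rfl)
  have oD : Ub q (l * (u + 1) / Nat.gcd 3 (u + 1)) := h.ub' (H127.PSUThreeEx.ex_two l hF _ dvd_rfl)
  have oA : Ub q ((u ^ 2 - u + 1) / Nat.gcd 3 (u + 1)) := h.ub' (H127.PSUThreeEx.ex_four l hF _ dvd_rfl)
  have hd : Nat.gcd 3 (u + 1) = 1 ∨ Nat.gcd 3 (u + 1) = 3 := (Nat.dvd_prime Nat.prime_three).1 (Nat.gcd_dvd_left _ _)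
  have hdt : Nat.gcd 3 (u + 1) ∣ u + 1 := Nat.gcd_dvd_right _ _
  have hd3 : Nat.gcd 3 (u + 1) ∣ 3 := Nat.gcd_dvd_left _ _
  have hu1 : u ≤ u ^ 2 := by nlinarith
  have hu2 : 1 ≤ u ^ 2 := by nlinarith
  have e1 : ((u ^ 2 - u + 1 : ℕ) : ℤ) = (u : ℤ) ^ 2 - u + 1 := by
    push_cast [Nat.cast_sub hu1]
    ring
  have e2 : ((u ^ 2 - 1 : ℕ) : ℤ) = (u : ℤ) ^ 2 - 1 := by
    push_cast [Nat.cast_sub hu2]
    ring
  have hdtI : ((Nat.gcd 3 (u + 1) : ℕ) : ℤ) ∣ (u : ℤ) + 1 := by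
    have := Int.natCast_dvd_natCast.2 hdt
    simpa using this
  have hd3I : ((Nat.gcd 3 (u + 1) : ℕ) : ℤ) ∣ 3 := by
    have := Int.natCast_dvd_natCast.2 hd3
    simpa using this
  have dA : Nat.gcd 3 (u + 1) ∣ u ^ 2 - u + 1 := by
    rw [← Int.natCast_dvd_natCast, e1]
    have : (u : ℤ) ^ 2 - u + 1 = (u + 1) * (u - 2) + 3 := by ring
    rw [this]
    exact dvd_add (hdtI.mul_right _) hd3I
  have dB : Nat.gcd 3 (u + 1) ∣ u ^ 2 - 1 := by
    rw [← Int.natCast_dvd_natCast, e2]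
    have : (u : ℤ) ^ 2 - 1 = (u + 1) * (u - 1) := by ring
    rw [this]
    exact hdtI.mul_right _
  have hA := Nat.mul_div_cancel' dA
  have hB := Nat.mul_div_cancel' dB
  have hD := Nat.mul_div_cancel' (hdt.mul_left l)
  have hdat : Dat (-(u : ℤ)) (Nat.gcd 3 (u + 1)) ((u ^ 2 - u + 1) / Nat.gcd 3 (u + 1))
      ((u ^ 2 - 1) / Nat.gcd 3 (u + 1)) (u + 1) (l * (u + 1) / Nat.gcd 3 (u + 1)) l := by
    refine ⟨hd, ?_, Or.inl (by omega), ?_, ?_, Or.inr (by push_cast; ring), hD, ?_⟩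
    · have : -(u : ℤ) - 1 = -((u : ℤ) + 1) := by ring
      rw [this, dvd_neg]
      exact hdtI
    · rw [← Nat.cast_mul, hA, e1]
      ring
    · rw [← Nat.cast_mul, hB, e2]
      ring
    · rcases hpar with ⟨a, b⟩ | ⟨a, b⟩
      · refine Or.inl ⟨a, ?_⟩
        have : u % 2 = 0 := by
          rcases Nat.mod_two_eq_zero_or_one u with h1 | h1
          · exact h1
          · rw [Nat.pow_mod, h1] at b
            norm_num at b
        omega
      · refine Or.inr ⟨a, ?_⟩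
        have : u % 2 = 1 := by
          rcases Nat.mod_two_eq_zero_or_one u with h1 | h1
          · rw [Nat.pow_mod, h1] at b
            norm_num at b
          · exact h1
        omega
  have key : ∀ {m : ℕ}, (∃ x : Cfsg.PSU 3 F u, orderOf x = m) →
      (m ∣ (u ^ 2 - u + 1) / Nat.gcd 3 (u + 1) ∨ m ∣ (u ^ 2 - 1) / Nat.gcd 3 (u + 1) ∨
      m ∣ u + 1 ∨ m ∣ l * (u + 1) / Nat.gcd 3 (u + 1) ∨ m ∣ 4) := by
    rintro m ⟨x, rfl⟩
    rcases hex0 x with h1 | h1 | h1 | h1 | ⟨-, h1⟩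
    · exact Or.inr (Or.inr (Or.inl h1))
    · rw [← Nat.mul_div_assoc l hdt] at h1
      exact Or.inr (Or.inr (Or.inr (Or.inl h1)))
    · exact Or.inr (Or.inl h1)
    · exact Or.inl h1
    · exact Or.inr (Or.inr (Or.inr (Or.inr h1)))
  refine elim hdat hP oA oB oC oD hl.out hl5 (by simpa using hlu) ?_
  rcases h.five with ⟨h1, h2, -⟩ | h1
  · exact Or.inl ⟨key h1, key h2⟩
  · exact Or.inr (key h1)

end Cfsg.Agent.H481.Six
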